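import Cfsg.Agent.N2.Sp.Eng
import Cfsg.Agent.TH.Spor.J1

/-!
# N2 (S3519), sporadic rows: J1 (helper16; generated by notes/N2/sp16/emit.py.txt)

Types which are left, with order, letter in the order of the table, and bound for the fixed points: 1 = 2a (120), 2 =
      3a (30), 3 = 5a (15).
-/

set_option autoImplicit false
set_option Elab.async false

namespace Cfsg.Agent.N2.Sp.J1

open Cfsg Cfsg.Agent.FP3 Cfsg.Agent.TAB.Eng Cfsg.Agent.TAB.Use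

/-- the data -/
abbrev D : Dat := TH.Spor.J1.dat

/-- the table -/
noncomputable abbrev R : Rows := TH.Spor.J1.tab

/-- the densities -/
def nu : List ℕ :=
  [1, 1463, 5852, 11704, 29260, 25080, 35112, 15960, 23408, 27720]

/-- type, lower and upper bound for the order -/
def O : Out :=
  [(1, 1, 287), (2, 7, 287), (3, 53, 287)]

/-- the types -/
def S : List ℕ := [1, 2, 3]

/-- the certificates -/
def L : List (ℕ × ℕ × List St) := [
  (2678, 4, [.fk 6 [(10000, 2)] 0 0 [(4, 1), (4, 2), (4, 5)] [],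
    .fk 4 [(1000000, 3)] 0 28006 [(11, 1), (28, 3)] [],
    .fk 9 [(500000, 1), (400000, 6), (200000, 8), (1000000, 9)] 0 172517 [(9, 1)] [],
    .fk 0 [(40, 3), (7, 6), (100, 9)] 0 10 [] []]),
  (2327, 5, [.fk 6 [(10000, 2)] 0 0 [(4, 1), (4, 2)] [],
    .fk 4 [(1000000, 4)] 0 0 [(444, 1), (444, 2), (410, 3)] [],
    .fk 9 [(1000000, 1)] 0 46412 [(34, 1)] [],
    .fk 0 [(4000, 3), (667, 6), (10000, 9)] 0 1135 [] []]),
  (2022, 5, [.fk 6 [(10000, 2)] 0 0 [(4, 1), (4, 2)] [],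
    .fk 4 [(1000000, 4)] 0 0 [(444, 1), (444, 2), (410, 3)] [],
    .fk 9 [(1000000, 1)] 0 53412 [(34, 1)] [],
    .fk 0 [(4000, 3), (667, 6), (10000, 9)] 0 1306 [] []]),
  (1757, 5, [.fk 6 [(10000, 2)] 0 0 [(4, 1), (4, 2)] [],
    .fk 4 [(1000000, 4)] 0 0 [(444, 1), (444, 2), (410, 3)] [],
    .fk 9 [(1000000, 1)] 0 61468 [(34, 1)] [],
    .fk 0 [(4000, 3), (667, 6), (10000, 9)] 0 1503 [] []]),
  (1526, 5, [.fk 6 [(10000, 2)] 0 0 [(4, 1), (4, 2)] [],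
    .fk 4 [(1000000, 4)] 0 0 [(444, 1), (444, 2), (410, 3)] [],
    .fk 9 [(1000000, 1)] 0 70773 [(34, 1)] [],
    .fk 0 [(4000, 3), (667, 6), (10000, 9)] 0 1730 [] []]),
  (1405, 5, [.fk 6 [(10000, 2)] 0 0 [(4, 1), (4, 2)] [],
    .fk 4 [(1000000, 4)] 0 0 [(444, 1), (444, 2), (410, 3)] [],
    .fk 9 [(1000000, 1)] 0 76868 [(34, 1)] [],
    .fk 0 [(40, 3), (7, 6), (100, 9)] 0 19 [] []]),
  (1220, 6, [.fk 4 [(10000, 4)] 0 0 [(4, 1), (4, 2)] [],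
    .fk 9 [(1000000, 1)] 0 88525 [(34, 1)] [],
    .fk 5 [(1000000, 2), (600000, 3)] 0 98361 [(18, 1)] [],
    .fk 0 [(40, 3), (7, 6), (100, 9)] 0 22 [] []]),
  (1060, 6, [.fk 4 [(10000, 4)] 0 0 [(4, 1), (4, 2)] [],
    .fk 9 [(1000000, 1)] 0 101887 [(34, 1)] [],
    .fk 5 [(1000000, 2), (600000, 3)] 0 113208 [(18, 1)] [],
    .fk 0 [(40, 3), (7, 6), (100, 9)] 0 25 [] []]),
  (920, 6, [.fk 4 [(10000, 4)] 0 0 [(4, 1), (4, 2)] [],
    .fk 9 [(1000000, 1)] 0 117391 [(34, 1)] [],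
    .fk 5 [(1000000, 2), (600000, 3)] 0 130435 [(18, 1)] [],
    .fk 0 [(40, 3), (7, 6), (100, 9)] 0 29 [] []]),
  (813, 6, [.fk 4 [(10000, 4)] 0 0 [(4, 1), (4, 2)] [],
    .fk 9 [(1000000, 1)] 0 132841 [(34, 1)] [],
    .fk 5 [(1000000, 2), (600000, 3)] 0 147601 [(18, 1)] [],
    .fk 0 [(4000, 3), (667, 6), (10000, 9)] 0 3247 [] []]),
  (706, 7, [.fk 0 [(4000, 3), (667, 6), (10000, 9)] 0 3739 [] []]),
  (613, 7, [.fk 0 [(4000, 3), (667, 6), (10000, 9)] 0 4307 [] []]),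
  (532, 7, [.fk 0 [(40, 3), (7, 6), (100, 9)] 0 50 [] []]),
  (512, 7, [.fk 0 [(40, 3), (7, 6), (100, 9)] 0 52 [] []]),
  (444, 8, [.fk 0 [(400000, 3), (66667, 6), (1000000, 9)] 0 594595 [] []]),
  (385, 8, [.fk 7 [(1000000, 6)] 0 935065 [(17, 1)] [],
    .fk 3 [(23, 5), (98, 7), (82, 8)] 0 100 [] [],
    .fk 2 [(1, 8)] 0 1 [] [],
    .fk 0 [(100, 3)] 0 21 [] []]),
  (333, 8, [.fk 7 [(925000, 6)] 0 1000000 [(16, 1)] [],
    .fk 3 [(1982, 5), (8495, 7), (7079, 8)] 0 10000 [] [],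
    .fk 2 [(1, 8)] 0 1 [] [],
    .fk 0 [(100, 3)] 0 24 [] []]),
  (288, 9, [.fk 7 [(1000000, 2), (600000, 3)] 0 416667 [(18, 1)] [],
    .fk 3 [(17, 5), (73, 7), (61, 8)] 0 100 [] [],
    .fk 2 [(1, 8)] 0 1 [] [],
    .fk 0 [(100, 3)] 0 28 [] []]),
  (249, 9, [.fk 7 [(1000000, 2), (600000, 3)] 0 481928 [(18, 1)] []]),
  (215, 9, [.fk 7 [(1000000, 2), (600000, 3)] 0 558140 [(18, 1)] []]),
  (186, 10, [.fk 7 [(1000000, 2), (600000, 3)] 0 645161 [(18, 1)] []]),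
  (160, 10, [.fk 7 [(1000000, 2), (600000, 3)] 0 750000 [(18, 1)] []]),
  (138, 11, [.fk 7 [(1000000, 2)] 0 0 [(439, 1)] []]),
  (132, 11, [.fk 7 [(1000000, 2)] 0 0 [(439, 1)] []]),
  (113, 12, []),
  (97, 12, []),
  (83, 13, []),
  (53, 13, []),
  (7, 16, []),
  (1, 31, [])]

theorem okz : okZ D = true := by decide +kernel

theorem ok : chk D R nu [] (List.range' 1 (D.n - 1)) O 287 0 3080 L = true := by decide +kernel

variable {K : Type} [Group K] [Finite K] {T : TD K D} {A : Subgroup K}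

theorem res (H : Hy T R nu) (hb : ¬ Good A) (hA : A ≠ ⊤) : Res T A O 287 :=
  H.res hb (pos_nil A) (sup_all A) Nat.card_pos
    ((H.card_le (md := 56) (by decide +kernel) hA).trans (by decide +kernel)) ok

theorem sup (H : Hy T R nu) (hb : ¬ Good A) (hA : A ≠ ⊤) : Nat.card A ≤ 287 ∧ Sup T A S :=
  ⟨(res H hb hA).1, (res H hb hA).sup.mono (by decide +kernel)⟩

end Cfsg.Agent.N2.Sp.J1
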