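import Cfsg.Agent.N2.Sp.Eng
import Cfsg.Agent.TH.Spor.J3Tab

/-!
# N2 (S3519), sporadic rows: J3 (helper16; generated by notes/N2/sp16/emit.py.txt)

Types which are left, with order, letter in the order of the table, and bound for the fixed points: 1 = 2a (1920), 2
      = 3a (1080), 3 = 3b (243), 4 = 4a (96).
-/

set_option autoImplicit false
set_option Elab.async false

namespace Cfsg.Agent.N2.Sp.J3

open Cfsg Cfsg.Agent.FP3 Cfsg.Agent.TAB.Eng Cfsg.Agent.TAB.Use

/-- the data -/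
abbrev D : Dat := TH.Spor.J3.dat

/-- the table -/
noncomputable abbrev R : Rows := TH.Spor.J3.tab

/-- the densities -/
def nu : List ℕ :=
  [1, 26163, 46512, 206720, 523260, 3348864, 2093040, 6279120, 5581440, 10046592, 4186080, 6697728, 5909760, 5287680]

/-- type, lower and upper bound for the order -/
def O : Out :=
  [(1, 1, 1587), (2, 1, 1587), (3, 4, 1587), (4, 57, 1587)]

/-- the types -/
def S : List ℕ := [1, 2, 3, 4]

/-- the certificates -/
def L : List (ℕ × ℕ × List St) := [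
  (507916, 5, [.fk 9 [(1000000, 3)] 0 0 [(6, 1), (6, 2)] [],
    .fk 11 [(100000000, 3)] 0 0 [(647, 1), (647, 3), (627, 5)] [],
    .fk 7 [(100000000, 1), (50000000, 2), (25000000, 4), (60000000, 5), (100000000, 8), (30000000, 10), (50000000,
      11), (90000000, 12)] 0 1530962 [(12, 1)] [],
    .fk 0 [(26086957, 6), (38901602, 7), (7551487, 8), (43935927, 9), (48741419, 10), (26086957, 11), (72540046, 12),
      (100000000, 13)] 0 2263161 [] [(26, 10, 2)]]),
  (441665, 5, [.fk 9 [(1000000, 3)] 0 0 [(6, 1), (6, 2)] [],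
    .fk 11 [(100000000, 3)] 0 0 [(647, 1), (647, 3), (627, 5)] [],
    .fk 7 [(100000000, 1), (50000000, 2), (25000000, 4), (60000000, 5), (100000000, 8), (30000000, 10), (50000000,
      11), (90000000, 12)] 0 1760610 [(12, 1)] [],
    .fk 0 [(26086957, 6), (38901602, 7), (7551487, 8), (43935927, 9), (48741419, 10), (26086957, 11), (72540046, 12),
      (100000000, 13)] 0 2602641 [] [(26, 10, 2)]]),
  (401864, 5, [.fk 9 [(1000000, 3)] 0 0 [(6, 1), (6, 2)] [],
    .fk 11 [(100000000, 3)] 0 0 [(647, 1), (647, 3), (627, 5)] [],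
    .fk 7 [(100000000, 1), (50000000, 2), (25000000, 4), (60000000, 5), (100000000, 8), (30000000, 10), (50000000,
      11), (90000000, 12)] 0 1934983 [(12, 1)] [],
    .fk 0 [(26086957, 6), (38901602, 7), (7551487, 8), (43935927, 9), (48741419, 10), (26086957, 11), (72540046, 12),
      (100000000, 13)] 0 2860410 [] [(26, 10, 2)]]),
  (156109, 6, [.fk 0 [(2642, 1), (15072, 2), (23898, 4), (35428, 6), (37758, 7), (50189, 8), (59668, 9), (47548, 10),
      (83224, 11), (110945, 12), (88010, 13)] 0 10000 [] []]),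
  (146452, 7, [.fk 11 [(1000000, 3)] 0 0 [(6, 1), (6, 3)] [],
    .fk 7 [(100000000, 1)] 0 109251 [(24, 1), (16, 2)] [],
    .fk 12 [(50000000, 4), (2631579, 7), (81052632, 8), (100000000, 9)] 0 5309589 [(12, 1)] [],
    .fk 0 [(14, 2), (3, 4), (51, 6), (14, 7), (38, 10), (57, 11), (51, 12), (100, 13)] 0 6 [] []]),
  (127348, 8, [.fk 7 [(100000000, 1)] 0 0 [(342, 1), (334, 2)] [],
    .fk 12 [(100000000, 9)] 0 4515972 [(24, 1)] [],
    .fk 8 [(100000000, 2)] 0 494707 [(36, 1), (36, 3)] [],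
    .fk 0 [(8, 1), (37, 6), (8, 7), (27, 8), (18, 10), (43, 12), (100, 13)] 0 5 [] []]),
  (110736, 8, [.fk 7 [(100000000, 1)] 0 0 [(342, 1), (334, 2)] [],
    .fk 12 [(100000000, 9)] 0 5193433 [(24, 1)] [],
    .fk 8 [(100000000, 2)] 0 568921 [(36, 1), (36, 3)] [],
    .fk 0 [(816, 1), (3673, 6), (816, 7), (2653, 8), (1837, 10), (4286, 12), (10000, 13)] 0 545 [] []]),
  (98112, 8, [.fk 7 [(100000000, 1)] 0 0 [(342, 1), (334, 2)] [],
    .fk 12 [(100000000, 9)] 0 5861668 [(24, 1)] [],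
    .fk 8 [(100000000, 2)] 0 642123 [(36, 1), (36, 3)] [],
    .fk 0 [(816, 1), (3673, 6), (816, 7), (2653, 8), (1837, 10), (4286, 12), (10000, 13)] 0 615 [] []]),
  (11938, 9, [.fk 0 [(3232, 2), (687, 4), (7272, 6), (808, 7), (3636, 8), (3636, 10), (8646, 11), (8484, 12), (13574,
      13)] 0 10000 [] []]),
  (2421, 17, [.fk 0 [(13, 4), (38, 10), (32, 11)] 0 100 [] []]),
  (2104, 28, [.fk 0 [(25, 10), (27, 11), (17, 12)] 0 100 [] []]),
  (1828, 29, [.fk 0 [(1459, 5), (2918, 10), (2371, 11)] 0 10000 [] []]),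
  (1588, 31, [.fk 0 [(13, 5), (25, 10), (21, 11)] 0 100 [] []]),
  (1380, 32, []),
  (1199, 34, []),
  (1041, 35, []),
  (57, 37, []),
  (4, 97, []),
  (1, 256, [])]

theorem okz : okZ D = true := by decide +kernel

theorem ok : chk D R nu [] (List.range' 1 (D.n - 1)) O 1587 0 584104 L = true := by decide +kernel

variable {K : Type} [Group K] [Finite K] {T : TD K D} {A : Subgroup K}

theorem res (H : Hy T R nu) (hb : ¬ Good A) (hA : A ≠ ⊤) : Res T A O 1587 :=
  H.res hb (pos_nil A) (sup_all A) Nat.card_pos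
    ((H.card_le (md := 85) (by decide +kernel) hA).trans (by decide +kernel)) ok

theorem sup (H : Hy T R nu) (hb : ¬ Good A) (hA : A ≠ ⊤) : Nat.card A ≤ 1587 ∧ Sup T A S :=
  ⟨(res H hb hA).1, (res H hb hA).sup.mono (by decide +kernel)⟩

end Cfsg.Agent.N2.Sp.J3
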