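import Cfsg.Agent.N2.Sp.Eng
import Cfsg.Agent.TAB.Sm2.M11

/-!
# N2 (S3519), sporadic rows: M11 (helper16; generated by notes/N2/sp16/emit.py.txt)

Types which are left, with order, letter in the order of the table, and bound for the fixed points: 1 = 2a (48), 2 =
      3a (18).
-/

set_option autoImplicit false
set_option Elab.async false

namespace Cfsg.Agent.N2.Sp.M11

open Cfsg Cfsg.Agent.FP3 Cfsg.Agent.TAB.Eng Cfsg.Agent.TAB.Use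

/-- the data -/
abbrev D : Dat := TAB.Sm2.M11.dat

/-- the table -/
noncomputable abbrev R : Rows := (TAB.Sm2.mkRows TAB.Sm2.M11.rA TAB.Sm2.M11.rB)

/-- the densities -/
def nu : List ℕ :=
  [1, 165, 440, 990, 1584, 1320, 1980, 1440]

/-- type, lower and upper bound for the order -/
def O : Out :=
  [(1, 2, 20), (2, 2, 20)]

/-- the types -/
def S : List ℕ := [1, 2]

/-- the certificates -/
def L : List (ℕ × ℕ × List St) := [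
  (626, 3, [.fk 6 [(10000, 2)] 0 0 [(15, 1), (15, 2)] [],
    .fk 4 [(10000, 3), (6667, 4), (10000, 5), (1667, 6)] 0 2109 [(2, 1)] [],
    .fk 7 [(8571, 1), (10000, 6), (4286, 7)] 0 657 [(6, 1)] [(35, 3, 2)],
    .fk 0 [(100, 5), (50, 7)] 0 12 [] []]),
  (543, 3, [.fk 6 [(10000, 2)] 0 0 [(15, 1), (15, 2)] [],
    .fk 4 [(10000, 3), (6667, 4), (10000, 5), (1667, 6)] 0 2431 [(2, 1)] [],
    .fk 7 [(8571, 1), (10000, 6), (4286, 7)] 0 758 [(6, 1)] [(35, 3, 2)],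
    .fk 0 [(10000, 5), (5000, 7)] 0 1326 [] []]),
  (471, 3, [.fk 6 [(10000, 2)] 0 0 [(15, 1), (15, 2)] [],
    .fk 4 [(10000, 3), (6667, 4), (10000, 5), (1667, 6)] 0 2803 [(2, 1)] [],
    .fk 7 [(8571, 1), (10000, 6), (4286, 7)] 0 874 [(6, 1)] [(35, 3, 2)],
    .fk 0 [(10000, 5), (5000, 7)] 0 1529 [] []]),
  (408, 3, [.fk 6 [(10000, 2)] 0 0 [(15, 1), (15, 2)] [],
    .fk 4 [(10000, 3), (6667, 4), (10000, 5), (1667, 6)] 0 3235 [(2, 1)] [],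
    .fk 7 [(8571, 1), (10000, 6), (4286, 7)] 0 1008 [(6, 1)] [(35, 3, 2)],
    .fk 0 [(100, 5), (50, 7)] 0 18 [] []]),
  (353, 3, [.fk 6 [(10000, 2)] 0 0 [(15, 1), (15, 2)] [],
    .fk 4 [(1000000, 3), (666667, 4), (1000000, 5), (166667, 6)] 0 373938 [(168, 1)] [],
    .fk 7 [(8571, 1), (10000, 6), (4286, 7)] 0 1166 [(6, 1)] [(35, 3, 2)],
    .fk 0 [(10000, 5), (5000, 7)] 0 2040 [] []]),
  (306, 3, [.fk 6 [(10000, 2)] 0 0 [(15, 1), (15, 2)] [],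
    .fk 4 [(1000000, 3), (666667, 4), (1000000, 5), (166667, 6)] 0 431373 [(168, 1)] [],
    .fk 7 [(8571, 1), (10000, 6), (4286, 7)] 0 1345 [(6, 1)] [(35, 3, 2)],
    .fk 0 [(100, 5), (50, 7)] 0 24 [] []]),
  (265, 3, [.fk 6 [(10000, 2)] 0 0 [(15, 1), (15, 2)] [],
    .fk 7 [(8571, 1), (10000, 6), (4286, 7)] 0 1553 [(6, 1)] [(35, 3, 2)],
    .fk 5 [(8000, 1), (10000, 5), (3000, 7)] 0 2717 [(3, 1)] [],
    .fk 4 [(10000, 3), (3333, 4), (6667, 6)] 0 2717 [(2, 1)] [],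
    .fk 3 [(100, 5), (50, 7)] 0 27 [] [],
    .fk 2 [(67, 6), (100, 7)] 0 18 [] [],
    .fk 0 [(100, 6)] 0 9 [] []]),
  (229, 4, [.fk 6 [(10000, 2)] 0 0 [(15, 1), (15, 2)] [],
    .fk 4 [(1000000, 3), (583333, 6)] 0 235808 [(337, 1)] [(1136, 5, 2)],
    .fk 7 [(6667, 1), (10000, 6), (3333, 7)] 0 1572 [(5, 1)] [],
    .fk 0 [(10000, 5), (5000, 7)] 0 3144 [] []]),
  (198, 4, [.fk 6 [(10000, 2)] 0 0 [(15, 1), (15, 2)] [],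
    .fk 4 [(1000000, 3), (583333, 6)] 0 272727 [(337, 1)] [(1136, 5, 2)],
    .fk 7 [(6667, 1), (10000, 6), (3333, 7)] 0 1818 [(5, 1)] [],
    .fk 0 [(10000, 5), (5000, 7)] 0 3636 [] []]),
  (171, 4, [.fk 6 [(10000, 2)] 0 0 [(15, 1), (15, 2)] [],
    .fk 4 [(1000000, 3), (583333, 6)] 0 315789 [(337, 1)] [(1136, 5, 2)],
    .fk 7 [(6667, 1), (10000, 6), (3333, 7)] 0 2105 [(5, 1)] [],
    .fk 0 [(100, 5), (50, 7)] 0 42 [] []]),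
  (147, 4, [.fk 6 [(10000, 2)] 0 0 [(15, 1), (15, 2)] [],
    .fk 4 [(1000000, 3), (583333, 6)] 0 367347 [(337, 1)] [(1136, 5, 2)],
    .fk 7 [(6667, 1), (10000, 6), (3333, 7)] 0 2449 [(5, 1)] [],
    .fk 0 [(100, 5), (50, 7)] 0 49 [] []]),
  (126, 4, [.fk 6 [(10000, 2)] 0 0 [(15, 1), (15, 2)] [],
    .fk 4 [(1000000, 3), (583333, 6)] 0 428571 [(337, 1)] [(1136, 5, 2)],
    .fk 7 [(6667, 1), (10000, 6), (3333, 7)] 0 2857 [(5, 1)] [],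
    .fk 0 [(1, 5), (1, 7)] 0 1 [] []]),
  (124, 4, [.fk 6 [(10000, 2)] 0 0 [(15, 1), (15, 2)] [],
    .fk 4 [(1000000, 3), (583333, 6)] 0 435484 [(337, 1)] [(1136, 5, 2)],
    .fk 7 [(6667, 1), (10000, 6), (3333, 7)] 0 2903 [(5, 1)] [],
    .fk 0 [(100, 5), (50, 7)] 0 58 [] []]),
  (106, 5, [.fk 4 [(100, 3)] 0 0 [(1, 1)] [],
    .fk 7 [(10000, 6)] 0 1698 [(5, 1)] [],
    .fk 5 [(10000, 1)] 0 0 [(14, 1), (11, 2), (10, 3)] [],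
    .fk 0 [(1, 5), (1, 7)] 0 1 [] []]),
  (91, 5, [.fk 4 [(100, 3)] 0 0 [(1, 1)] [],
    .fk 7 [(10000, 6)] 0 1978 [(5, 1)] [],
    .fk 5 [(10000, 1)] 0 0 [(14, 1), (11, 2), (10, 3)] [],
    .fk 0 [(100, 5), (50, 7)] 0 79 [] []]),
  (78, 5, [.fk 4 [(100, 3)] 0 0 [(1, 1)] [],
    .fk 7 [(10000, 6)] 0 2308 [(5, 1)] [],
    .fk 5 [(10000, 1)] 0 0 [(14, 1), (11, 2), (10, 3)] [],
    .fk 0 [(10000, 5), (5000, 7)] 0 9231 [] []]),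
  (66, 5, [.fk 4 [(100, 3)] 0 0 [(1, 1)] [],
    .fk 7 [(10000, 6)] 0 2727 [(5, 1)] [],
    .fk 5 [(10000, 1)] 0 0 [(14, 1), (11, 2), (10, 3)] [],
    .fk 2 [(10000, 7)] 0 4848 [(5, 1)] [],
    .fk 1 [(100, 2), (100, 6)] 0 48 [] [],
    .pw 3 2,
    .fk 0 [] 0 1 [] []]),
  (64, 5, [.fk 4 [(100, 3)] 0 0 [(1, 1)] [],
    .fk 7 [(10000, 6)] 0 2812 [(5, 1)] [],
    .fk 5 [(10000, 1)] 0 0 [(14, 1), (11, 2), (10, 3)] [],
    .fk 2 [(10000, 7)] 0 5000 [(5, 1)] [],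
    .fk 1 [(1, 2), (1, 6)] 0 1 [] [],
    .pw 3 2,
    .fk 0 [] 0 1 [] []]),
  (54, 6, [.fk 5 [(10000, 1)] 0 0 [(14, 1), (11, 2)] [],
    .fk 2 [(10000, 7)] 0 5926 [(5, 1)] [],
    .fk 1 [(1, 2), (1, 6)] 0 1 [] [],
    .pw 3 2,
    .fk 0 [] 0 1 [] []]),
  (46, 6, [.fk 5 [(10000, 1)] 0 0 [(14, 1), (11, 2)] [],
    .fk 2 [(10000, 7)] 0 6957 [(5, 1)] [],
    .fk 1 [(1, 2), (1, 6)] 0 1 [] [],
    .pw 3 2,
    .fk 0 [] 0 1 [] []]),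
  (39, 6, [.fk 5 [(10000, 1)] 0 0 [(14, 1), (11, 2)] [],
    .fk 2 [(10000, 7)] 0 8205 [(5, 1)] [],
    .fk 1 [(1, 2), (1, 6)] 0 1 [] [],
    .pw 3 2,
    .fk 0 [] 0 1 [] []]),
  (37, 6, [.fk 5 [(10000, 1)] 0 0 [(14, 1), (11, 2)] [],
    .fk 2 [(10000, 7)] 0 8649 [(5, 1)] [],
    .fk 1 [(1, 2), (1, 6)] 0 1 [] [],
    .pw 3 2,
    .fk 0 [] 0 1 [] []]),
  (31, 7, [.fk 3 [(10000, 2)] 0 0 [(15, 1), (10, 2)] [],
    .fk 2 [(43, 6), (65, 7)] 0 100 [] [],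
    .fk 1 [(1, 6)] 0 1 [] [],
    .fk 0 [] 0 1 [] []]),
  (26, 7, [.fk 3 [(10000, 2)] 0 0 [(15, 1), (10, 2)] [],
    .fk 2 [(36, 6), (54, 7)] 0 100 [] [],
    .fk 1 [(1, 6)] 0 1 [] [],
    .fk 0 [] 0 1 [] []]),
  (21, 7, [.fk 3 [(10000, 2)] 0 0 [(15, 1), (10, 2)] [],
    .fk 2 [(29, 6), (44, 7)] 0 100 [] [],
    .fk 1 [(88, 6)] 0 100 [] [],
    .fk 0 [] 0 1 [] []]),
  (17, 8, [.fk 3 [(10000, 2)] 0 0 [(15, 1), (10, 2)] []]),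
  (16, 8, [.fk 3 [] 10000 0 [(20, 1), (20, 2)] []]),
  (13, 9, []),
  (10, 9, []),
  (7, 10, []),
  (2, 11, []),
  (1, 20, [.fk 1 [] 10000 0 [(1, 1)] []])]

theorem okz : okZ D = true := by decide +kernel

theorem ok : chk D R nu [] (List.range' 1 (D.n - 1)) O 20 0 720 L = true := by decide +kernel

variable {K : Type} [Group K] [Finite K] {T : TD K D} {A : Subgroup K}

theorem res (H : Hy T R nu) (hb : ¬ Good A) (hA : A ≠ ⊤) : Res T A O 20 :=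
  H.res hb (pos_nil A) (sup_all A) Nat.card_pos
    ((H.card_le (md := 10) (by decide +kernel) hA).trans (by decide +kernel)) ok

theorem sup (H : Hy T R nu) (hb : ¬ Good A) (hA : A ≠ ⊤) : Nat.card A ≤ 20 ∧ Sup T A S :=
  ⟨(res H hb hA).1, (res H hb hA).sup.mono (by decide +kernel)⟩

end Cfsg.Agent.N2.Sp.M11
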