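import Cfsg.Agent.N2.Sp.Eng
import Cfsg.Agent.TAB.Sm2.M12

/-!
# N2 (S3519), sporadic rows: M12 (helper16; generated by notes/N2/sp16/emit.py.txt)

Types which are left, with order, letter in the order of the table, and bound for the fixed points: 1 = 2a (240), 2 =
      2b (192), 3 = 3a (36), 4 = 3b (54), 5 = 4a (32), 6 = 4b (32), 7 = 5a (10).
-/

set_option autoImplicit false
set_option Elab.async false

namespace Cfsg.Agent.N2.Sp.M12

open Cfsg Cfsg.Agent.FP3 Cfsg.Agent.TAB.Eng Cfsg.Agent.TAB.Use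

/-- the data -/
abbrev D : Dat := TAB.Sm2.M12.dat

/-- the table -/
noncomputable abbrev R : Rows := (TAB.Sm2.mkRows TAB.Sm2.M12.rA TAB.Sm2.M12.rB)

/-- the densities -/
def nu : List ℕ :=
  [1, 396, 495, 2640, 1760, 2970, 2970, 9504, 7920, 15840, 11880, 11880, 9504, 17280]

/-- type, lower and upper bound for the order -/
def O : Out :=
  [(1, 1, 285), (2, 1, 285), (3, 3, 285), (4, 3, 285), (5, 3, 285), (6, 3, 285), (7, 247, 285), (7, 119, 212)]

/-- the types -/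
def S : List ℕ := [1, 2, 3, 4, 5, 6, 7]

/-- the certificates -/
def L : List (ℕ × ℕ × List St) := [
  (6886, 3, [.fk 13 [(384615, 4), (76923, 5), (346154, 6), (38462, 7), (1000000, 10), (423077, 12), (288462, 13)] 0
      36194 [(24, 1)] [(2176, 5, 2)],
    .fk 9 [(1000000, 5), (1000000, 6), (500000, 8), (125000, 11), (625000, 12)] 0 39210 [(37, 1), (21, 3)] [(1263, 8,
      3)],
    .fk 10 [(119048, 1), (880952, 3), (1000000, 7), (71429, 8), (595238, 10), (880952, 11), (785714, 12)] 0 63483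
      [(22, 1), (5, 2)] [],
    .fk 0 [(1163, 2), (4419, 3), (4884, 7), (5581, 9), (7907, 10), (10000, 11), (9070, 12)] 0 729 [] [(6, 5, 2)]]),
  (5986, 3, [.fk 13 [(384615, 4), (76923, 5), (346154, 6), (38462, 7), (1000000, 10), (423077, 12), (288462, 13)] 0
      41636 [(24, 1)] [(2176, 5, 2)],
    .fk 9 [(1000000, 5), (1000000, 6), (500000, 8), (125000, 11), (625000, 12)] 0 45105 [(37, 1), (21, 3)] [(1263, 8,
      3)],
    .fk 10 [(119048, 1), (880952, 3), (1000000, 7), (71429, 8), (595238, 10), (880952, 11), (785714, 12)] 0 73028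
      [(22, 1), (5, 2)] [],
    .fk 0 [(1163, 2), (4419, 3), (4884, 7), (5581, 9), (7907, 10), (10000, 11), (9070, 12)] 0 839 [] [(6, 5, 2)]]),
  (5204, 3, [.fk 13 [(384615, 4), (76923, 5), (346154, 6), (38462, 7), (1000000, 10), (423077, 12), (288462, 13)] 0
      47892 [(24, 1)] [(2176, 5, 2)],
    .fk 9 [(1000000, 5), (1000000, 6), (500000, 8), (125000, 11), (625000, 12)] 0 51883 [(37, 1), (21, 3)] [(1263, 8,
      3)],
    .fk 10 [(119048, 1), (880952, 3), (1000000, 7), (71429, 8), (595238, 10), (880952, 11), (785714, 12)] 0 84001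
      [(22, 1), (5, 2)] [],
    .fk 0 [(12, 2), (44, 3), (49, 7), (56, 9), (79, 10), (100, 11), (91, 12)] 0 10 [] []]),
  (4524, 3, [.fk 13 [(384615, 4), (76923, 5), (346154, 6), (38462, 7), (1000000, 10), (423077, 12), (288462, 13)] 0
      55091 [(24, 1)] [(2176, 5, 2)],
    .fk 9 [(1000000, 5), (1000000, 6), (500000, 8), (125000, 11), (625000, 12)] 0 59682 [(37, 1), (21, 3)] [(1263, 8,
      3)],
    .fk 10 [(119048, 1), (880952, 3), (1000000, 7), (71429, 8), (595238, 10), (880952, 11), (785714, 12)] 0 96628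
      [(22, 1), (5, 2)] [],
    .fk 0 [(1163, 2), (4419, 3), (4884, 7), (5581, 9), (7907, 10), (10000, 11), (9070, 12)] 0 1110 [] [(6, 5, 2)]]),
  (3933, 3, [.fk 13 [(384615, 4), (76923, 5), (346154, 6), (38462, 7), (1000000, 10), (423077, 12), (288462, 13)] 0
      63369 [(24, 1)] [(2176, 5, 2)],
    .fk 9 [(1000000, 5), (1000000, 6), (500000, 8), (125000, 11), (625000, 12)] 0 68650 [(37, 1), (21, 3)] [(1263, 8,
      3)],
    .fk 10 [(119048, 1), (880952, 3), (1000000, 7), (71429, 8), (595238, 10), (880952, 11), (785714, 12)] 0 111147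
      [(22, 1), (5, 2)] [],
    .fk 0 [(12, 2), (44, 3), (49, 7), (56, 9), (79, 10), (100, 11), (91, 12)] 0 13 [] []]),
  (3419, 3, [.fk 13 [(384615, 4), (76923, 5), (346154, 6), (38462, 7), (1000000, 10), (423077, 12), (288462, 13)] 0
      72896 [(24, 1)] [(2176, 5, 2)],
    .fk 9 [(1000000, 5), (1000000, 6), (500000, 8), (125000, 11), (625000, 12)] 0 78970 [(37, 1), (21, 3)] [(1263, 8,
      3)],
    .fk 10 [(119048, 1), (880952, 3), (1000000, 7), (71429, 8), (595238, 10), (880952, 11), (785714, 12)] 0 127857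
      [(22, 1), (5, 2)] [],
    .fk 0 [(12, 2), (44, 3), (49, 7), (56, 9), (79, 10), (100, 11), (91, 12)] 0 15 [] []]),
  (2972, 4, [.fk 13 [(250000, 4), (166667, 5), (166667, 6), (83333, 7), (1000000, 10), (333333, 12), (333333, 13)] 0
      75707 [(25, 1)] [],
    .fk 9 [(1000000, 5), (1000000, 6)] 0 36339 [(42, 1), (42, 3)] [],
    .fk 10 [(185185, 1), (1000000, 3), (185185, 6), (1000000, 7), (111111, 8), (555556, 10), (1000000, 11), (851852,
      12)] 0 161507 [(26, 1)] [],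
    .fk 0 [(12, 2), (44, 3), (49, 7), (56, 9), (79, 10), (100, 11), (91, 12)] 0 17 [] []]),
  (2583, 4, [.fk 13 [(250000, 4), (166667, 5), (166667, 6), (83333, 7), (1000000, 10), (333333, 12), (333333, 13)] 0
      87108 [(25, 1)] [],
    .fk 9 [(1000000, 5), (1000000, 6)] 0 41812 [(42, 1), (42, 3)] [],
    .fk 10 [(185185, 1), (1000000, 3), (185185, 6), (1000000, 7), (111111, 8), (555556, 10), (1000000, 11), (851852,
      12)] 0 185830 [(26, 1)] [],
    .fk 0 [(1163, 2), (4419, 3), (4884, 7), (5581, 9), (7907, 10), (10000, 11), (9070, 12)] 0 1945 [] [(6, 5, 2)]]),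
  (2245, 4, [.fk 13 [(250000, 4), (166667, 5), (166667, 6), (83333, 7), (1000000, 10), (333333, 12), (333333, 13)] 0
      100223 [(25, 1)] [],
    .fk 9 [(1000000, 5), (1000000, 6)] 0 48107 [(42, 1), (42, 3)] [],
    .fk 10 [(185185, 1), (1000000, 3), (185185, 6), (1000000, 7), (111111, 8), (555556, 10), (1000000, 11), (851852,
      12)] 0 213808 [(26, 1)] [],
    .fk 0 [(1163, 2), (4419, 3), (4884, 7), (5581, 9), (7907, 10), (10000, 11), (9070, 12)] 0 2238 [] [(6, 5, 2)]]),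
  (1951, 4, [.fk 13 [(250000, 4), (166667, 5), (166667, 6), (83333, 7), (1000000, 10), (333333, 12), (333333, 13)] 0
      115325 [(25, 1)] [],
    .fk 9 [(1000000, 5), (1000000, 6)] 0 55356 [(42, 1), (42, 3)] [],
    .fk 10 [(185185, 1), (1000000, 3), (185185, 6), (1000000, 7), (111111, 8), (555556, 10), (1000000, 11), (851852,
      12)] 0 246028 [(26, 1)] [],
    .fk 0 [(1163, 2), (4419, 3), (4884, 7), (5581, 9), (7907, 10), (10000, 11), (9070, 12)] 0 2575 [] [(6, 5, 2)]]),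
  (1695, 4, [.fk 13 [(250000, 4), (166667, 5), (166667, 6), (83333, 7), (1000000, 10), (333333, 12), (333333, 13)] 0
      132743 [(25, 1)] [],
    .fk 9 [(1000000, 5), (1000000, 6)] 0 63717 [(42, 1), (42, 3)] [],
    .fk 10 [(185185, 1), (1000000, 3), (185185, 6), (1000000, 7), (111111, 8), (555556, 10), (1000000, 11), (851852,
      12)] 0 283186 [(26, 1)] [],
    .fk 0 [(1163, 2), (4419, 3), (4884, 7), (5581, 9), (7907, 10), (10000, 11), (9070, 12)] 0 2964 [] [(6, 5, 2)]]),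
  (1473, 4, [.fk 13 [(250000, 4), (166667, 5), (166667, 6), (83333, 7), (1000000, 10), (333333, 12), (333333, 13)] 0
      152749 [(25, 1)] [],
    .fk 9 [(1000000, 5), (1000000, 6)] 0 73320 [(42, 1), (42, 3)] [],
    .fk 10 [(185185, 1), (1000000, 3), (185185, 6), (1000000, 7), (111111, 8), (555556, 10), (1000000, 11), (851852,
      12)] 0 325866 [(26, 1)] [],
    .fk 0 [(1163, 2), (4419, 3), (4884, 7), (5581, 9), (7907, 10), (10000, 11), (9070, 12)] 0 3410 [] [(6, 5, 2)]]),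
  (1280, 5, [.fk 13 [(1000000, 4), (428571, 5), (428571, 6), (571429, 7), (857143, 10), (428571, 13)] 0 192857 [(48,
      1)] [],
    .fk 9 [(1000000, 5), (1000000, 6)] 0 84375 [(42, 1), (42, 3)] [],
    .fk 10 [(1000000, 1)] 0 6250 [(42, 1), (42, 2)] [],
    .fk 0 [(1163, 2), (4419, 3), (4884, 7), (5581, 9), (7907, 10), (10000, 11), (9070, 12)] 0 3924 [] [(6, 5, 2)]]),
  (1112, 5, [.fk 13 [(1000000, 4), (428571, 5), (428571, 6), (571429, 7), (857143, 10), (428571, 13)] 0 221994 [(48,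
      1)] [],
    .fk 9 [(1000000, 5), (1000000, 6)] 0 97122 [(42, 1), (42, 3)] [],
    .fk 10 [(1000000, 1)] 0 7194 [(42, 1), (42, 2)] [],
    .fk 0 [(116279, 2), (441860, 3), (488372, 7), (558140, 9), (790698, 10), (1000000, 11), (906977, 12)] 0 451732 []
      [(564, 5, 2), (16, 11, 2)]]),
  (966, 5, [.fk 13 [(1000000, 4), (428571, 5), (428571, 6), (571429, 7), (857143, 10), (428571, 13)] 0 255546 [(48,
      1)] [],
    .fk 9 [(1000000, 5), (1000000, 6)] 0 111801 [(42, 1), (42, 3)] [],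
    .fk 10 [(1000000, 1)] 0 8282 [(42, 1), (42, 2)] [],
    .fk 0 [(116279, 2), (441860, 3), (488372, 7), (558140, 9), (790698, 10), (1000000, 11), (906977, 12)] 0 520006 []
      [(564, 5, 2), (16, 11, 2)]]),
  (839, 5, [.fk 13 [(1000000, 4), (428571, 5), (428571, 6), (571429, 7), (857143, 10), (428571, 13)] 0 294228 [(48,
      1)] [],
    .fk 9 [(1000000, 5), (1000000, 6)] 0 128725 [(42, 1), (42, 3)] [],
    .fk 10 [(1000000, 1)] 0 9535 [(42, 1), (42, 2)] [],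
    .fk 11 [(1000000, 2)] 0 9535 [(42, 1), (42, 2)] [],
    .fk 7 [(333333, 5), (1000000, 9), (333333, 10), (1000000, 11), (333333, 12)] 0 429082 [(18, 1)] [],
    .pw 12 2,
    .fk 8 [(11, 1), (11, 2), (56, 8), (33, 10), (100, 12)] 0 31 [] [],
    .fk 0 [(50, 8), (25, 10), (100, 12)] 0 29 [] []]),
  (761, 5, [.fk 13 [(1000000, 4), (428571, 5), (428571, 6), (571429, 7), (857143, 10), (428571, 13)] 0 324385 [(48,
      1)] [],
    .fk 9 [(1000000, 5), (1000000, 6)] 0 141919 [(42, 1), (42, 3)] [],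
    .fk 10 [(1000000, 1)] 0 10512 [(42, 1), (42, 2)] [],
    .fk 11 [(1000000, 2)] 0 10512 [(42, 1), (42, 2)] [],
    .fk 7 [(333333, 5), (1000000, 9), (333333, 10), (1000000, 11), (333333, 12)] 0 473062 [(18, 1)] [],
    .pw 12 2,
    .fk 8 [(11, 1), (11, 2), (56, 8), (33, 10), (100, 12)] 0 34 [] [],
    .fk 0 [(50, 8), (25, 10), (100, 12)] 0 32 [] []]),
  (660, 6, [.fk 9 [(10000, 5)] 0 0 [(6, 1), (6, 2)] [],
    .fk 10 [(1000000, 1)] 0 12121 [(42, 1), (42, 2)] [],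
    .fk 11 [(1000000, 2)] 0 12121 [(42, 1), (42, 2)] [],
    .fk 0 [(100, 9), (50, 10), (100, 11), (100, 12)] 0 73 [] []]),
  (573, 6, [.fk 9 [(10000, 5)] 0 0 [(6, 1), (6, 2)] [],
    .fk 10 [(1000000, 1)] 0 13962 [(42, 1), (42, 2)] [],
    .fk 11 [(1000000, 2)] 0 13962 [(42, 1), (42, 2)] [],
    .fk 0 [(1, 9), (1, 10), (1, 11), (1, 12)] 0 1 [] []]),
  (497, 6, [.fk 9 [(10000, 5)] 0 0 [(6, 1), (6, 2)] [],
    .fk 10 [(1000000, 1)] 0 16097 [(42, 1), (42, 2)] [],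
    .fk 11 [(1000000, 2)] 0 16097 [(42, 1), (42, 2)] [],
    .fk 0 [(100, 9), (50, 10), (100, 11), (100, 12)] 0 97 [] []]),
  (441, 6, [.fk 9 [(10000, 5)] 0 0 [(6, 1), (6, 2)] [],
    .fk 10 [(1000000, 1)] 0 18141 [(42, 1), (42, 2)] [],
    .fk 11 [(1000000, 2)] 0 18141 [(42, 1), (42, 2)] [],
    .fk 7 [(333333, 5), (1000000, 9), (333333, 10), (1000000, 11), (333333, 12)] 0 816327 [(18, 1)] [],
    .pw 12 2,
    .fk 8 [(1000000, 1), (1000000, 2), (500000, 10), (875000, 12)] 0 530612 [(51, 1), (51, 2), (79, 3)] [],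
    .fk 5 [(5000, 8), (2500, 10), (10000, 12)] 0 5442 [] [],
    .fk 0 [(67, 2), (50, 6), (33, 10), (100, 12)] 0 57 [] []]),
  (382, 7, [.fk 10 [(1000000, 1)] 0 0 [(126, 1), (126, 2)] [],
    .fk 11 [(1000000, 2)] 0 0 [(126, 1), (126, 2)] [],
    .fk 7 [(230769, 5), (1000000, 9), (230769, 10), (769231, 11)] 0 652437 [(28, 1)] [],
    .pw 12 2,
    .fk 0 [(50, 8), (25, 10), (100, 12)] 0 63 [] []]),
  (331, 7, [.fk 10 [(1000000, 1)] 0 0 [(126, 1), (126, 2)] [],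
    .fk 11 [(1000000, 2)] 0 0 [(126, 1), (126, 2)] [],
    .fk 7 [(230769, 5), (1000000, 9), (230769, 10), (769231, 11)] 0 752963 [(28, 1)] [],
    .pw 12 2,
    .fk 0 [(50, 8), (25, 10), (100, 12)] 0 73 [] []]),
  (286, 7, [.fk 10 [(1000000, 1)] 0 0 [(126, 1), (126, 2)] [],
    .fk 11 [(1000000, 2)] 0 0 [(126, 1), (126, 2)] [],
    .fk 7 [(230769, 5), (1000000, 9), (230769, 10), (769231, 11)] 0 871436 [(28, 1)] [],
    .pw 12 2,
    .fk 0 [(50, 8), (25, 10), (100, 12)] 0 84 [] []]),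
  (247, 7, [.fk 10 [(1000000, 1)] 0 0 [(126, 1), (126, 2)] [],
    .fk 11 [(1000000, 2)] 0 0 [(126, 1), (126, 2)] [],
    .fk 12 [(10000, 9)] 0 0 [(11, 1), (11, 2)] [],
    .fk 8 [(1000000, 1)] 0 32389 [(42, 1), (42, 2), (42, 3)] []]),
  (213, 8, [.fk 10 [(10000, 1)] 0 0 [(1, 1), (1, 2)] [],
    .fk 11 [(10000, 2)] 0 0 [(1, 1), (1, 2)] [],
    .fk 7 [(197222, 5), (854630, 9), (197222, 10), (657407, 11)] 0 1000000 [(24, 1)] [],
    .pw 12 2,
    .fk 8 [(1000000, 1)] 0 37559 [(42, 1), (42, 2), (42, 3)] []]),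
  (186, 8, [.fk 10 [(10000, 1)] 0 0 [(1, 1), (1, 2)] [],
    .fk 11 [(10000, 2)] 0 0 [(1, 1), (1, 2)] [],
    .fk 12 [(10000, 9)] 0 0 [(11, 1), (11, 2)] [],
    .fk 8 [(1000000, 1)] 0 43011 [(42, 1), (42, 2), (42, 3)] []]),
  (160, 9, [.fk 12 [(10000, 9)] 0 0 [(11, 1), (11, 2)] [],
    .fk 8 [(1000000, 1)] 0 50000 [(42, 1), (42, 2), (42, 3)] []]),
  (138, 9, [.fk 12 [(10000, 9)] 0 0 [(11, 1), (11, 2)] [],
    .fk 8 [(1000000, 1)] 0 57971 [(42, 1), (42, 2), (42, 3)] []]),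
  (119, 9, [.fk 12 [(10000, 9)] 0 0 [(11, 1), (11, 2)] [],
    .fk 8 [(1000000, 1)] 0 67227 [(42, 1), (42, 2), (42, 3)] []]),
  (102, 10, [.fk 7 [(10000, 4)] 0 0 [(6, 1)] [],
    .pw 12 2,
    .fk 8 [(1000000, 1)] 0 0 [(126, 1), (126, 2)] []]),
  (96, 10, [.fk 7 [(10000, 4)] 0 0 [(6, 1)] [],
    .pw 12 2,
    .fk 8 [(1000000, 1)] 0 0 [(126, 1), (126, 2)] []]),
  (82, 11, [.fk 8 [(10000, 1)] 0 0 [(1, 1), (1, 2)] []]),
  (70, 11, [.fk 8 [(10000, 1)] 0 0 [(1, 1), (1, 2)] []]),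
  (60, 12, [.fk 8 [(10000, 1)] 0 0 [(1, 1), (1, 2)] []]),
  (56, 12, [.fk 8 [(10000, 1)] 0 0 [(1, 1), (1, 2)] []]),
  (47, 13, []),
  (40, 13, []),
  (33, 14, []),
  (3, 15, []),
  (1, 37, [.fk 4 [] 1000000 0 [(21, 1)] []])]

theorem okz : okZ D = true := by decide +kernel

theorem ok : chk D R nu [] (List.range' 1 (D.n - 1)) O 285 0 7920 L = true := by decide +kernel

variable {K : Type} [Group K] [Finite K] {T : TD K D} {A : Subgroup K}

theorem res (H : Hy T R nu) (hb : ¬ Good A) (hA : A ≠ ⊤) : Res T A O 285 :=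
  H.res hb (pos_nil A) (sup_all A) Nat.card_pos
    ((H.card_le (md := 11) (by decide +kernel) hA).trans (by decide +kernel)) ok

theorem sup (H : Hy T R nu) (hb : ¬ Good A) (hA : A ≠ ⊤) : Nat.card A ≤ 285 ∧ Sup T A S :=
  ⟨(res H hb hA).1, (res H hb hA).sup.mono (by decide +kernel)⟩

end Cfsg.Agent.N2.Sp.M12
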