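import Cfsg.Agent.N2.Sp.Eng
import Cfsg.Agent.TAB.Sm2.M22

/-!
# N2 (S3519), sporadic rows: M22 (helper16; generated by notes/N2/sp16/emit.py.txt)

Types which are left, with order, letter in the order of the table, and bound for the fixed points: 1 = 2a (384), 2 =
      3a (36), 3 = 4a (16), 4 = 4b (32).
-/

set_option autoImplicit false
set_option Elab.async false

namespace Cfsg.Agent.N2.Sp.M22

open Cfsg Cfsg.Agent.FP3 Cfsg.Agent.TAB.Eng Cfsg.Agent.TAB.Use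

/-- the data -/
abbrev D : Dat := TAB.Sm2.M22.dat

/-- the table -/
noncomputable abbrev R : Rows := (TAB.Sm2.mkRows TAB.Sm2.M22.rA TAB.Sm2.M22.rB)

/-- the densities -/
def nu : List ℕ :=
  [1, 1155, 12320, 27720, 13860, 88704, 36960, 126720, 55440, 80640]

/-- type, lower and upper bound for the order -/
def O : Out :=
  [(1, 1, 425), (2, 10, 425), (3, 320, 368), (3, 143, 165), (4, 14, 425)]

/-- the types -/
def S : List ℕ := [1, 2, 3, 4]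

/-- the certificates -/
def L : List (ℕ × ℕ × List St) := [
  (17530, 3, [.fk 7 [(1000000, 2), (500000, 8)] 0 5476 [(12, 1)] [],
    .fk 5 [(1000000, 3), (1000000, 4), (500000, 7), (750000, 9)] 0 49287 [(8, 1)] [],
    .fk 9 [(1000000, 1), (1000000, 6), (500000, 7), (750000, 9)] 0 49287 [(5, 1)] [],
    .fk 0 [(100, 5), (100, 6), (100, 7), (50, 8), (50, 9)] 0 7 [] []]),
  (16427, 3, [.fk 7 [(1000000, 2), (500000, 8)] 0 5844 [(12, 1)] [],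
    .fk 5 [(1000000, 3), (1000000, 4), (500000, 7), (750000, 9)] 0 52596 [(8, 1)] [],
    .fk 9 [(1000000, 1), (1000000, 6), (500000, 7), (750000, 9)] 0 52596 [(5, 1)] [],
    .fk 0 [(10000, 5), (10000, 6), (10000, 7), (5000, 8), (5000, 9)] 0 701 [] []]),
  (8000, 4, [.fk 0 [(168, 1), (3198, 3), (2357, 4), (4208, 5), (4377, 6), (6733, 7), (5050, 9)] 0 1000 [] []]),
  (6955, 4, [.fk 5 [(1000000, 3), (1000000, 4), (500000, 8), (500000, 9)] 0 82818 [(9, 1)] [],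
    .fk 9 [(1000000, 1), (1000000, 6), (666667, 9)] 0 89720 [(7, 1)] [],
    .fk 8 [(666667, 5), (666667, 6), (1000000, 8)] 0 55212 [(6, 1)] [],
    .fk 0 [(67, 5), (67, 6), (100, 7), (50, 9)] 0 14 [] []]),
  (6046, 4, [.fk 5 [(1000000, 3), (1000000, 4), (500000, 8), (500000, 9)] 0 95270 [(9, 1)] [],
    .fk 9 [(1000000, 1), (1000000, 6), (666667, 9)] 0 103209 [(7, 1)] [],
    .fk 8 [(666667, 5), (666667, 6), (1000000, 8)] 0 63513 [(6, 1)] [],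
    .fk 0 [(67, 5), (67, 6), (100, 7), (50, 9)] 0 16 [] []]),
  (5256, 5, [.fk 5 [(1000000, 3)] 0 0 [(225, 1)] [],
    .fk 9 [(1000000, 1)] 0 3044 [(14, 1)] [],
    .fk 8 [(1000000, 1), (1000000, 8)] 0 20548 [(14, 1), (9, 4)] [],
    .fk 0 [(6667, 5), (6667, 6), (10000, 7), (5000, 9)] 0 1826 [] []]),
  (4569, 5, [.fk 5 [(1000000, 3)] 0 0 [(225, 1)] [],
    .fk 9 [(1000000, 1)] 0 3502 [(14, 1)] [],
    .fk 8 [(1000000, 1), (1000000, 8)] 0 23638 [(14, 1), (9, 4)] [],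
    .fk 0 [(6667, 5), (6667, 6), (10000, 7), (5000, 9)] 0 2101 [] []]),
  (3972, 5, [.fk 5 [(1000000, 3)] 0 0 [(225, 1)] [],
    .fk 9 [(1000000, 1)] 0 4028 [(14, 1)] [],
    .fk 8 [(1000000, 1), (1000000, 8)] 0 27190 [(14, 1), (9, 4)] [],
    .fk 0 [(6667, 5), (6667, 6), (10000, 7), (5000, 9)] 0 2417 [] []]),
  (3549, 5, [.fk 5 [(1000000, 3)] 0 0 [(225, 1)] [],
    .fk 9 [(1000000, 1)] 0 4508 [(14, 1)] [],
    .fk 8 [(1000000, 1), (1000000, 8)] 0 30431 [(14, 1), (9, 4)] [],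
    .fk 0 [(6667, 5), (6667, 6), (10000, 7), (5000, 9)] 0 2705 [] []]),
  (1153, 6, [.fk 0 [(10, 5), (10, 6), (10, 7), (5, 8), (5, 9)] 0 10 [] []]),
  (1001, 8, [.fk 8 [(1000000, 1)] 0 0 [(50, 1), (45, 2)] [],
    .fk 6 [(1000000, 7)] 0 383616 [(7, 1), (7, 2)] [],
    .fk 3 [(1, 6), (1, 9)] 0 1 [] [],
    .fk 0 [(1, 6), (1, 9)] 0 1 [] []]),
  (869, 8, [.fk 8 [(1000000, 1)] 0 0 [(50, 1), (45, 2)] [],
    .fk 6 [(1000000, 7)] 0 441887 [(7, 1), (7, 2)] [],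
    .fk 3 [(1, 6), (1, 9)] 0 1 [] [],
    .fk 0 [(1, 6), (1, 9)] 0 1 [] []]),
  (867, 8, [.fk 8 [(1000000, 1)] 0 0 [(50, 1), (45, 2)] [],
    .fk 6 [(1000000, 7)] 0 442907 [(7, 1), (7, 2)] [],
    .fk 3 [(1, 6), (1, 9)] 0 1 [] [],
    .fk 0 [(1, 6), (1, 9)] 0 1 [] []]),
  (753, 9, [.fk 6 [(10000, 7)] 0 0 [(9, 1), (9, 2), (9, 3)] [],
    .fk 3 [(1818, 5), (10000, 6), (5455, 9)] 0 7649 [] [],
    .fk 4 [(1818, 5), (10000, 6), (5455, 9)] 0 7649 [] [],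
    .fk 0 [(60, 6), (100, 8)] 0 31 [] []]),
  (653, 9, [.fk 6 [(10000, 7)] 0 0 [(9, 1), (9, 2), (9, 3)] [],
    .fk 3 [(1818, 5), (10000, 6), (5455, 9)] 0 8821 [] [],
    .fk 4 [(1818, 5), (10000, 6), (5455, 9)] 0 8821 [] [],
    .fk 0 [(6000, 6), (10000, 8)] 0 3528 [] []]),
  (566, 9, [.fk 6 [(10000, 7)] 0 0 [(9, 1), (9, 2), (9, 3)] [],
    .fk 3 [(1787, 5), (9826, 6), (5360, 9)] 0 10000 [] [],
    .fk 4 [(1787, 5), (9826, 6), (5360, 9)] 0 10000 [] [],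
    .fk 0 [(60, 6), (100, 8)] 0 41 [] []]),
  (491, 10, [.fk 6 [(10000, 7)] 0 0 [(9, 1), (9, 2)] [],
    .fk 3 [(15, 5), (85, 6), (46, 9)] 0 100 [] [],
    .fk 4 [(15, 5), (85, 6), (46, 9)] 0 100 [] [],
    .fk 0 [(60, 6), (100, 8)] 0 47 [] []]),
  (426, 10, [.fk 6 [(10000, 7)] 0 0 [(9, 1), (9, 2)] [],
    .fk 3 [(1345, 5), (7396, 6), (4034, 9)] 0 10000 [] [],
    .fk 4 [(1345, 5), (7396, 6), (4034, 9)] 0 10000 [] [],
    .fk 0 [(60, 6), (100, 8)] 0 54 [] []]),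
  (369, 11, [.fk 6 [(10000, 7)] 0 0 [(9, 1), (9, 2)] [],
    .fk 3 [(1000000, 3), (545455, 5), (136364, 9)] 0 780488 [(9, 1)] []]),
  (320, 11, [.fk 6 [(10000, 7)] 0 0 [(9, 1), (9, 2)] []]),
  (277, 12, [.fk 6 [(1000000, 1)] 0 0 [(50, 1), (41, 2)] [],
    .fk 3 [(333333, 3), (1000000, 5)] 0 866426 [(12, 1)] []]),
  (257, 12, [.fk 6 [(1000000, 1)] 0 0 [(50, 1), (41, 2)] [],
    .fk 3 [(333333, 3), (1000000, 5)] 0 933852 [(12, 1)] []]),
  (222, 13, [.fk 3 [(308333, 3), (925000, 5)] 0 1000000 [(11, 1)] []]),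
  (192, 13, [.fk 3 [(266667, 3), (800000, 5)] 0 1000000 [(10, 1)] []]),
  (166, 14, [.fk 3 [(230556, 3), (691667, 5)] 0 1000000 [(8, 1)] []]),
  (143, 14, []),
  (123, 15, [.fk 3 [(1000000, 2)] 0 390244 [(18, 1)] []]),
  (109, 16, [.fk 3 [(1000000, 2)] 0 0 [(126, 1), (108, 2)] []]),
  (93, 17, []),
  (80, 17, []),
  (68, 18, []),
  (14, 19, []),
  (10, 33, []),
  (1, 37, [])]

theorem okz : okZ D = true := by decide +kernel

theorem ok : chk D R nu [] (List.range' 1 (D.n - 1)) O 425 0 20160 L = true := by decide +kernel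

variable {K : Type} [Group K] [Finite K] {T : TD K D} {A : Subgroup K}

theorem res (H : Hy T R nu) (hb : ¬ Good A) (hA : A ≠ ⊤) : Res T A O 425 :=
  H.res hb (pos_nil A) (sup_all A) Nat.card_pos
    ((H.card_le (md := 21) (by decide +kernel) hA).trans (by decide +kernel)) ok

theorem sup (H : Hy T R nu) (hb : ¬ Good A) (hA : A ≠ ⊤) : Nat.card A ≤ 425 ∧ Sup T A S :=
  ⟨(res H hb hA).1, (res H hb hA).sup.mono (by decide +kernel)⟩

end Cfsg.Agent.N2.Sp.M22
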