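import Cfsg.Agent.N2.Sp.Eng
import Cfsg.Agent.TAB.Sm2.M23

/-!
# N2 (S3519), sporadic rows: M23 (helper16; generated by notes/N2/sp16/emit.py.txt)

Types which are left, with order, letter in the order of the table, and bound for the fixed points: 1 = 2a (2688), 2
      = 3a (180).
-/

set_option autoImplicit false
set_option Elab.async false

namespace Cfsg.Agent.N2.Sp.M23

open Cfsg Cfsg.Agent.FP3 Cfsg.Agent.TAB.Eng Cfsg.Agent.TAB.Use

/-- the data -/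
abbrev D : Dat := TAB.Sm2.M23.dat

/-- the table -/
noncomputable abbrev R : Rows := (TAB.Sm2.mkRows TAB.Sm2.M23.rA TAB.Sm2.M23.rB)

/-- the densities -/
def nu : List ℕ :=
  [1, 3795, 56672, 318780, 680064, 850080, 1457280, 1275120, 1854720, 1457280, 1360128, 887040]

/-- type, lower and upper bound for the order -/
def O : Out :=
  [(1, 2, 129), (2, 2, 129)]

/-- the types -/
def S : List ℕ := [1, 2]

/-- the certificates -/
def L : List (ℕ × ℕ × List St) := [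
  (385669, 3, [.fk 8 [(75000000, 2), (100000000, 6), (48214286, 9), (85714286, 10), (28571429, 11)] 0 1306820 [(23,
      1)] [(51, 9, 2)],
    .fk 6 [(50000000, 5), (100000000, 7), (25000000, 9), (25000000, 10)] 0 373377 [(20, 1)] [],
    .pw 9 2,
    .fk 10 [(100, 6), (30, 7), (20, 8), (20, 9), (10, 11)] 0 1 [] [],
    .fk 0 [(100, 6), (25, 7), (25, 9), (25, 10)] 0 1 [] []]),
  (335363, 3, [.fk 8 [(75000000, 2), (100000000, 6), (48214286, 9), (85714286, 10), (28571429, 11)] 0 1502849 [(23,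
      1)] [(51, 9, 2)],
    .fk 6 [(50000000, 5), (100000000, 7), (25000000, 9), (25000000, 10)] 0 429385 [(20, 1)] [],
    .pw 9 2,
    .fk 10 [(100, 6), (30, 7), (20, 8), (20, 9), (10, 11)] 0 1 [] [],
    .fk 0 [(100, 6), (25, 7), (25, 9), (25, 10)] 0 1 [] []]),
  (291619, 4, [.fk 8 [(100000000, 2), (35714286, 9), (85714286, 10), (28571429, 11)] 0 987590 [(35, 1)] [],
    .fk 6 [(33333333, 5), (100000000, 7), (16666667, 8), (16666667, 9)] 0 263357 [(20, 1)] [],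
    .pw 9 2,
    .fk 10 [(100, 6), (30, 7), (20, 8), (20, 9), (10, 11)] 0 1 [] [],
    .fk 0 [(100, 6), (25, 7), (25, 9), (25, 10)] 0 1 [] []]),
  (253580, 4, [.fk 8 [(100000000, 2), (35714286, 9), (85714286, 10), (28571429, 11)] 0 1135736 [(35, 1)] [],
    .fk 6 [(33333333, 5), (100000000, 7), (16666667, 8), (16666667, 9)] 0 302863 [(20, 1)] [],
    .pw 9 2,
    .fk 10 [(1000000, 6), (300000, 7), (200000, 8), (200000, 9), (100000, 11)] 0 10449 [] [],
    .fk 0 [(10000, 6), (2500, 7), (2500, 9), (2500, 10)] 0 114 [] []]),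
  (220503, 4, [.fk 8 [(100000000, 2), (35714286, 9), (85714286, 10), (28571429, 11)] 0 1306105 [(35, 1)] [],
    .fk 6 [(33333333, 5), (100000000, 7), (16666667, 8), (16666667, 9)] 0 348295 [(20, 1)] [],
    .pw 9 2,
    .fk 10 [(1000000, 6), (300000, 7), (200000, 8), (200000, 9), (100000, 11)] 0 12016 [] [],
    .fk 0 [(10000, 6), (2500, 7), (2500, 9), (2500, 10)] 0 131 [] []]),
  (191740, 4, [.fk 8 [(100000000, 2), (35714286, 9), (85714286, 10), (28571429, 11)] 0 1502034 [(35, 1)] [],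
    .fk 6 [(33333333, 5), (100000000, 7), (16666667, 8), (16666667, 9)] 0 400542 [(20, 1)] [],
    .pw 9 2,
    .fk 10 [(1000000, 6), (300000, 7), (200000, 8), (200000, 9), (100000, 11)] 0 13819 [] [],
    .fk 0 [(100, 6), (25, 7), (25, 9), (25, 10)] 0 2 [] []]),
  (166729, 4, [.fk 8 [(100000000, 2), (35714286, 9), (85714286, 10), (28571429, 11)] 0 1727354 [(35, 1)] [],
    .fk 6 [(33333333, 5), (100000000, 7), (16666667, 8), (16666667, 9)] 0 460628 [(20, 1)] [],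
    .pw 9 2,
    .fk 10 [(100, 6), (30, 7), (20, 8), (20, 9), (10, 11)] 0 2 [] [],
    .fk 0 [(100, 6), (25, 7), (25, 9), (25, 10)] 0 2 [] []]),
  (144980, 4, [.fk 8 [(100000000, 2), (35714286, 9), (85714286, 10), (28571429, 11)] 0 1986481 [(35, 1)] [],
    .fk 6 [(33333333, 5), (100000000, 7), (16666667, 8), (16666667, 9)] 0 529728 [(20, 1)] [],
    .pw 9 2,
    .fk 10 [(100, 6), (30, 7), (20, 8), (20, 9), (10, 11)] 0 2 [] [],
    .fk 0 [(100, 6), (25, 7), (25, 9), (25, 10)] 0 2 [] []]),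
  (126068, 5, [.fk 8 [(100000000, 2), (35714286, 9), (85714286, 10), (28571429, 11)] 0 2284481 [(35, 1)] [],
    .fk 6 [(100000000, 7)] 0 69878 [(28, 1)] [(2480, 3, 2)],
    .pw 9 2,
    .fk 10 [(10000, 6)] 0 0 [(2, 1), (2, 3), (2, 5)] [],
    .fk 0 [(1000000, 6), (250000, 7), (250000, 9), (250000, 10)] 0 22845 [] []]),
  (109623, 5, [.fk 8 [(100000000, 2), (35714286, 9), (85714286, 10), (28571429, 11)] 0 2627186 [(35, 1)] [],
    .fk 6 [(100000000, 7)] 0 80361 [(28, 1)] [(2480, 3, 2)],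
    .pw 9 2,
    .fk 10 [(10000, 6)] 0 0 [(2, 1), (2, 3), (2, 5)] [],
    .fk 0 [(100, 6), (25, 7), (25, 9), (25, 10)] 0 3 [] []]),
  (95323, 5, [.fk 8 [(100000000, 2), (35714286, 9), (85714286, 10), (28571429, 11)] 0 3021307 [(35, 1)] [],
    .fk 6 [(100000000, 7)] 0 92416 [(28, 1)] [(2480, 3, 2)],
    .pw 9 2,
    .fk 10 [(10000, 6)] 0 0 [(2, 1), (2, 3), (2, 5)] [],
    .fk 0 [(1000000, 6), (250000, 7), (250000, 9), (250000, 10)] 0 30213 [] []]),
  (82888, 5, [.fk 8 [(100000000, 2), (35714286, 9), (85714286, 10), (28571429, 11)] 0 3474568 [(35, 1)] [],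
    .fk 6 [(100000000, 7)] 0 106281 [(28, 1)] [(2480, 3, 2)],
    .pw 9 2,
    .fk 10 [(10000, 6)] 0 0 [(2, 1), (2, 3), (2, 5)] [],
    .fk 0 [(1000000, 6), (250000, 7), (250000, 9), (250000, 10)] 0 34746 [] []]),
  (81608, 5, [.fk 8 [(100000000, 2), (35714286, 9), (85714286, 10), (28571429, 11)] 0 3529066 [(35, 1)] [],
    .fk 6 [(100000000, 7)] 0 107948 [(28, 1)] [(2480, 3, 2)],
    .pw 9 2,
    .fk 10 [(10000, 6)] 0 0 [(2, 1), (2, 3), (2, 5)] [],
    .fk 0 [(100, 6), (25, 7), (25, 9), (25, 10)] 0 4 [] []]),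
  (40803, 6, [.fk 0 [(1141304348, 3), (1141304348, 4), (6358695652, 5), (10000000000, 6), (1521739130, 7),
      (1141304348, 8), (3804347826, 9), (3804347826, 10), (4891304348, 11)] 0 1235203294 [] [(261, 9, 2)]]),
  (35480, 7, [.fk 6 [(1000000, 7)] 0 0 [(9, 1)] [],
    .pw 9 2,
    .fk 10 [(1000000, 1)] 0 0 [(2, 1), (2, 3)] [],
    .fk 7 [(1000000, 7)] 0 0 [(9, 1), (9, 2)] [],
    .fk 0 [(10000, 6), (217, 7), (2174, 9), (2174, 10), (652, 11)] 0 812 [] []]),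
  (30851, 7, [.fk 6 [(1000000, 7)] 0 0 [(9, 1)] [],
    .pw 9 2,
    .fk 10 [(1000000, 1)] 0 0 [(2, 1), (2, 3)] [],
    .fk 7 [(1000000, 7)] 0 0 [(9, 1), (9, 2)] [],
    .fk 0 [(10000, 6), (217, 7), (2174, 9), (2174, 10), (652, 11)] 0 934 [] []]),
  (29741, 7, [.fk 6 [(1000000, 7)] 0 0 [(9, 1)] [],
    .pw 9 2,
    .fk 10 [(1000000, 1)] 0 0 [(2, 1), (2, 3)] [],
    .fk 7 [(1000000, 7)] 0 0 [(9, 1), (9, 2)] [],
    .fk 0 [(100, 6), (2, 7), (22, 9), (22, 10), (7, 11)] 0 10 [] []]),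
  (5761, 8, [.fk 0 [(20, 6), (5, 7), (5, 9), (5, 10)] 0 10 [] []]),
  (5008, 13, [.fk 0 [(100, 4), (43, 9), (73, 10), (4, 11)] 0 46 [] []]),
  (4353, 13, [.fk 0 [(1000000, 4), (428571, 9), (728571, 10), (42857, 11)] 0 529290 [] []]),
  (3784, 14, [.fk 4 [(66666667, 4), (100000000, 7)] 0 6765328 [(39, 1)] [],
    .fk 3 [(10000, 8), (3415, 9), (1951, 11)] 0 3638 [] [],
    .fk 2 [(10000, 7), (3000, 8)] 0 609 [] [],
    .fk 0 [(100, 7)] 0 3 [] []]),
  (3289, 14, [.fk 4 [(66666667, 4), (100000000, 7)] 0 7783521 [(39, 1)] [],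
    .fk 3 [(10000, 8), (3415, 9), (1951, 11)] 0 4186 [] [],
    .fk 2 [(100, 7), (30, 8)] 0 7 [] [],
    .fk 0 [(100, 7)] 0 3 [] []]),
  (3023, 15, [.fk 4 [(1000000, 4)] 0 0 [(25, 1)] [],
    .fk 3 [(100, 8), (34, 9), (20, 11)] 0 46 [] [],
    .fk 2 [(100, 7), (30, 8)] 0 8 [] [],
    .fk 0 [(100, 7)] 0 3 [] []]),
  (538, 16, [.fk 0 [(3907, 8), (1334, 9), (762, 11)] 0 10000 [] []]),
  (466, 27, [.fk 3 [(36598876, 8), (19262566, 9)] 0 100000000 [(12, 1)] [],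
    .fk 2 [(10000, 7), (3000, 8)] 0 4944 [] [],
    .fk 1 [(100, 7)] 0 21 [] [],
    .fk 0 [] 0 1 [] []]),
  (404, 28, [.fk 3 [(31729497, 8), (16699735, 9)] 0 100000000 [(10, 1)] [],
    .fk 2 [(100, 7), (30, 8)] 0 57 [] [],
    .fk 1 [(100, 7)] 0 24 [] [],
    .fk 0 [] 0 1 [] []]),
  (350, 30, [.fk 3 [(27488426, 8), (14467593, 9)] 0 100000000 [(9, 1)] [],
    .fk 2 [(100, 7), (30, 8)] 0 66 [] [],
    .fk 1 [(100, 7)] 0 27 [] [],
    .fk 0 [] 0 1 [] []]),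
  (312, 31, [.fk 3 [(10000000000, 3)] 0 7179487179 [(7842, 1)] [],
    .fk 2 [(100, 7), (30, 8)] 0 74 [] [],
    .fk 1 [(100, 7)] 0 31 [] [],
    .fk 0 [] 0 1 [] []]),
  (130, 33, [.fk 0 [(561, 7), (168, 8)] 0 1000 [] []]),
  (112, 43, []),
  (96, 46, []),
  (82, 48, []),
  (2, 51, []),
  (1, 217, [.fk 1 [] 100000000 0 [(10, 1)] []])]

theorem okz : okZ D = true := by decide +kernel

theorem ok : chk D R nu [] (List.range' 1 (D.n - 1)) O 129 0 443520 L = true := by decide +kernel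

variable {K : Type} [Group K] [Finite K] {T : TD K D} {A : Subgroup K}

theorem res (H : Hy T R nu) (hb : ¬ Good A) (hA : A ≠ ⊤) : Res T A O 129 :=
  H.res hb (pos_nil A) (sup_all A) Nat.card_pos
    ((H.card_le (md := 22) (by decide +kernel) hA).trans (by decide +kernel)) ok

theorem sup (H : Hy T R nu) (hb : ¬ Good A) (hA : A ≠ ⊤) : Nat.card A ≤ 129 ∧ Sup T A S :=
  ⟨(res H hb hA).1, (res H hb hA).sup.mono (by decide +kernel)⟩

end Cfsg.Agent.N2.Sp.M23
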