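import Cfsg.Agent.N2.Sp.Eng
import Cfsg.Agent.TAB.Ru.Dat

/-!
# N2 (S3519), sporadic rows: Ru (helper16; generated by notes/N2/sp16/emit.py.txt)

Types which are left, with order, letter in the order of the table, and bound for the fixed points: 1 = 2a (116480),
      2 = 2b (245760), 3 = 3a (2160), 4 = 4a (1024), 5 = 4b (512), 6 = 4c (3840), 7 = 4d (7680), 8 = 5a (300), 9 = 5b
      (1000).
-/

set_option autoImplicit false
set_option Elab.async false

namespace Cfsg.Agent.N2.Sp.Ru

open Cfsg Cfsg.Agent.FP3 Cfsg.Agent.TAB.Eng Cfsg.Agent.TAB.Use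

/-- the data -/
abbrev D : Dat := TAB.Ru.D

/-- the table -/
noncomputable abbrev R : Rows := TAB.Ru.RR

/-- the densities -/
def nu : List ℕ :=
  [1, 1252800, 593775, 67558400, 142506000, 285012000, 38001600, 19000800, 486420480, 145926144, 3040128000,
      5211648000, 4560192000, 2280096000, 1520064000, 7296307200, 3648153600, 12160512000, 6080256000, 2806272000,
      15634944000, 9728409600, 18240768000, 14592614400, 7296307200, 12160512000, 8418816000, 10063872000]

/-- type, lower and upper bound for the order -/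
def O : Out :=
  [(1, 1, 53406), (2, 1, 53406), (3, 15, 53406), (4, 136, 53406), (5, 1088, 53406), (6, 3, 53406), (7, 3, 53406), (8,
      5405, 53406), (9, 146, 53406)]

/-- the types -/
def S : List ℕ := [1, 2, 3, 4, 5, 6, 7, 8, 9]

/-- the certificates -/
def L : List (ℕ × ℕ × List St) := [
  (334808176, 8, [.fk 22 [(100000000, 22)] 0 0 [(1, 1), (1, 2)] [],
    .fk 20 [(100000000, 2)] 0 0 [(1, 1), (1, 2)] [],
    .fk 23 [(100000000, 22)] 0 0 [(1, 1), (1, 2), (1, 4)] [],
    .fk 0 [(17, 1), (2890, 6), (2655, 9), (3099, 10), (3730, 11), (5111, 12), (2441, 13), (328, 14), (5751, 15),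
      (6508, 16), (5217, 17), (5217, 18), (10000, 19), (6173, 20), (8403, 21), (1998, 23), (5482, 24), (4712, 25),
      (2669, 27)] 0 25 [] []]),
  (291137543, 8, [.fk 22 [(100000000, 22)] 0 0 [(1, 1), (1, 2)] [],
    .fk 20 [(100000000, 2)] 0 0 [(1, 1), (1, 2)] [],
    .fk 23 [(100000000, 22)] 0 0 [(1, 1), (1, 2), (1, 4)] [],
    .fk 0 [(17, 1), (2890, 6), (2655, 9), (3099, 10), (3730, 11), (5111, 12), (2441, 13), (328, 14), (5751, 15),
      (6508, 16), (5217, 17), (5217, 18), (10000, 19), (6173, 20), (8403, 21), (1998, 23), (5482, 24), (4712, 25),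
      (2669, 27)] 0 29 [] []]),
  (285012001, 8, [.fk 22 [(100000000, 22)] 0 0 [(1, 1), (1, 2)] [],
    .fk 20 [(100000000, 2)] 0 0 [(1, 1), (1, 2)] [],
    .fk 23 [(100000000, 22)] 0 0 [(1, 1), (1, 2), (1, 4)] [],
    .fk 0 [(169101, 1), (28895337, 6), (26546928, 9), (30988593, 10), (37303382, 11), (51113668, 12), (24413648, 13),
      (3281969, 14), (57511507, 15), (65082049, 16), (52168301, 17), (52168301, 18), (100000000, 19), (61725035, 20),
      (84034421, 21), (19979988, 23), (54824895, 24), (47116270, 25), (26692015, 27)] 0 292747 [] []]),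
  (6360902, 9, [.fk 0 [(680, 1), (10690, 2), (676, 4), (8057, 6), (19419, 9), (21579, 10), (29788, 11), (38854, 12),
      (18860, 13), (34540, 14), (42361, 15), (37169, 16), (40322, 17), (40998, 18), (44636, 19), (47180, 20), (51778,
      21), (15232, 23), (41674, 24), (48207, 25), (10096, 26), (20786, 27)] 0 10000 [] []]),
  (497969, 29, [.fk 0 [(29389, 9), (13141, 12), (5122, 13), (37388, 14), (85040, 15), (16191, 16), (24401, 17),
      (67832, 20), (32305, 22), (9918, 23), (36487, 24), (78776, 25), (14547, 27)] 0 100000 [] []]),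
  (70634, 67, [.fk 0 [(2525, 1), (1027, 14), (592, 16), (286, 20), (1637, 21), (794, 24), (837, 25), (105, 27)] 0
      10000 [] []]),
  (61420, 128, [.fk 0 [(72131, 11), (85442, 14), (41120, 16), (20074, 18), (15577, 20), (108975, 21), (58838, 24),
      (74661, 25), (18887, 27)] 0 1000000 [] []]),
  (53407, 134, [.fk 8 [(3566172543, 10), (77267071759, 11), (74295261307, 14), (39227897970, 16), (18425224804, 20),
      (88857132523, 21), (47548967236, 24), (79941701166, 25)] 0 1000000000000 [(3, 1)] [],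
    .fk 5 [(8, 5), (3, 16), (6, 17), (6, 18), (13, 21), (6, 24), (8, 27)] 0 100 [] [],
    .fk 9 [(206, 5), (304, 6), (1173, 17), (341, 18), (825, 20), (1767, 21), (659, 27)] 0 10000 [] [],
    .fk 0 [(460, 1), (460, 10), (1380, 17), (460, 18), (3219, 20)] 0 10000 [] []]),
  (46440, 140, []),
  (40381, 147, []),
  (35113, 154, []),
  (5405, 161, []),
  (1088, 301, []),
  (146, 513, []),
  (136, 1003, []),
  (15, 1027, []),
  (3, 2185, []),
  (1, 4179, [.fk 7 [] 1000000000000 0 [(14, 1)] []])]

theorem okz : okZ D = true := by decide +kernel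

theorem ok : chk D R nu [] (List.range' 1 (D.n - 1)) O 53406 0 385029403 L = true := by decide +kernel

variable {K : Type} [Group K] [Finite K] {T : TD K D} {A : Subgroup K}

theorem res (H : Hy T R nu) (hb : ¬ Good A) (hA : A ≠ ⊤) : Res T A O 53406 :=
  H.res hb (pos_nil A) (sup_all A) Nat.card_pos
    ((H.card_le (md := 378) (by decide +kernel) hA).trans (by decide +kernel)) ok

theorem sup (H : Hy T R nu) (hb : ¬ Good A) (hA : A ≠ ⊤) : Nat.card A ≤ 53406 ∧ Sup T A S :=
  ⟨(res H hb hA).1, (res H hb hA).sup.mono (by decide +kernel)⟩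

end Cfsg.Agent.N2.Sp.Ru
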